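import Groth.Agent.NormUPLib.Basic
import Groth.Agent.NormalSch.Birational
import Groth.Agent.S2351
import Groth.Agent.S4448

/-! Characterisations of the normalization of an integral scheme. -/

set_option autoImplicit false
set_option backward.isDefEq.respectTransparency false
set_option linter.style.haveILetI false

universe u

open CategoryTheory CategoryTheory.Limits AlgebraicGeometry TopologicalSpace

noncomputable section

namespace Groth.Agent.NormUPLib

variable {X : Scheme.{u}} [IsIntegral X]
  [QuasiCompact (X.fromSpecStalk (genericPoint ↥X))] [QuasiSeparated (X.fromSpecStalk (genericPoint ↥X))]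

theorem generic_facts :
    ∃ (_ : IsIntegral (Curv2.normalization X)), Pi1.IsNormalScheme (Curv2.normalization X) ∧
      (Curv2.normalizationι X).base ⁻¹' {genericPoint ↥X} = {genericPoint ↥(Curv2.normalization X)} ∧
      IsIso ((Curv2.normalizationι X).stalkMap (genericPoint ↥(Curv2.normalization X))) := by
  letI : Field (X.presheaf.stalk (genericPoint X)) := inferInstanceAs (Field X.functionField)
  obtain ⟨hN, hnorm, -, hgen, hbij⟩ := S2351.result X
  obtain ⟨_, _, hpre, _⟩ := S4448.result X (X.presheaf.stalk (genericPoint X))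
    (RingHom.id _) (X.fromSpecStalk (genericPoint ↥X)) (by
      rw [show Spec.map (CommRingCat.ofHom (RingHom.id (X.presheaf.stalk (genericPoint X)))) =
        𝟙 (Spec (X.presheaf.stalk (genericPoint X))) from Spec.map_id _]
      exact (Category.id_comp _).symm)
  refine ⟨hN, hnorm, hpre, (ConcreteCategory.isIso_iff_bijective _).2
    ⟨?_, NormalSch.stalkMap_surjective_of_residueFieldMap _ hbij.2⟩⟩
  have hF : IsField (X.presheaf.stalk ((Curv2.normalizationι X) (genericPoint ↥(Curv2.normalization X)))) :=
    hgen.symm ▸ Field.toIsField X.functionField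
  letI := hF.toField
  exact RingHom.injective ((Curv2.normalizationι X).stalkMap _).hom

theorem isNormalScheme_of_iso {Y Z : Scheme.{u}} (e : Y ≅ Z) (h : Pi1.IsNormalScheme Z) :
    Pi1.IsNormalScheme Y := fun y => by
  obtain ⟨hd, hi⟩ := h (e.hom y)
  let ε := (asIso (e.hom.stalkMap y)).commRingCatIsoToRingEquiv
  haveI : IsDomain (Y.presheaf.stalk y) := ε.symm.injective.isDomain
  exact ⟨inferInstance, IsIntegrallyClosed.of_equiv ε⟩

/-- Necessity. -/
theorem facts_of_iso {Y : Scheme.{u}} (f : Y ⟶ X) (e : Y ≅ Curv2.normalization X)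
    (he : e.hom ≫ Curv2.normalizationι X = f) :
    Pi1.IsNormalScheme Y ∧ IsIntegralHom f ∧
      ∃ _ : IrreducibleSpace ↥Y, f.base ⁻¹' {genericPoint ↥X} = {genericPoint ↥Y} ∧
        IsIso (f.stalkMap (genericPoint ↥Y)) := by
  obtain ⟨hN, hnorm, hpre, hiso⟩ := generic_facts (X := X)
  haveI : IsIntegralHom (Curv2.normalizationι X) :=
    inferInstanceAs (IsIntegralHom (X.fromSpecStalk (genericPoint X)).fromNormalization)
  haveI : Nonempty ↥Y := ⟨e.inv (genericPoint ↥(Curv2.normalization X))⟩
  haveI : IsIntegral Y := isIntegral_of_isOpenImmersion e.hom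
  haveI : IrreducibleSpace ↥Y := inferInstance
  have hgen : e.hom (genericPoint ↥Y) = genericPoint ↥(Curv2.normalization X) :=
    genericPoint_eq_of_isOpenImmersion e.hom
  subst he
  refine ⟨isNormalScheme_of_iso e hnorm, inferInstance, inferInstance, ?_, ?_⟩
  · ext y
    refine ⟨fun hy => ?_, fun hy => ?_⟩
    · have h1 : e.hom y ∈ ({genericPoint ↥(Curv2.normalization X)} : Set _) := hpre ▸ hy
      exact e.hom.isOpenEmbedding.injective (h1.trans hgen.symm)
    · rw [Set.mem_singleton_iff] at hy
      subst hy
      have h1 : genericPoint ↥(Curv2.normalization X) ∈ (Curv2.normalizationι X).base ⁻¹' {genericPoint ↥X} :=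
        hpre ▸ rfl
      exact show Curv2.normalizationι X (e.hom (genericPoint ↥Y)) = _ from hgen ▸ h1
  · rw [Scheme.Hom.stalkMap_comp]
    haveI : IsIso ((Curv2.normalizationι X).stalkMap (e.hom (genericPoint ↥Y))) := hgen.symm ▸ hiso
    exact IsIso.comp_isIso

/-- Sufficiency. -/
theorem exists_iso {Y : Scheme.{u}} (f : Y ⟶ X) (hY : Pi1.IsNormalScheme Y) [IsIntegralHom f]
    [IrreducibleSpace ↥Y] (hgen : f (genericPoint ↥Y) = genericPoint ↥X)
    (hsurj : Function.Surjective (f.stalkMap (genericPoint ↥Y))) :
    ∃ e : Y ≅ Curv2.normalization X, e.hom ≫ Curv2.normalizationι X = f := by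
  obtain ⟨hN, hnorm, hpre, -⟩ := generic_facts (X := X)
  haveI : ∀ y : Y, _root_.IsReduced (Y.presheaf.stalk y) := fun y => haveI := (hY y).1; inferInstance
  haveI : AlgebraicGeometry.IsReduced Y := isReduced_of_isReduced_stalk Y
  haveI : IsIntegral Y := isIntegral_of_irreducibleSpace_of_isReduced Y
  have hdom : ∀ z : Y, closure {z} ∈ irreducibleComponents ↥Y → f z = genericPoint ↥X := fun z hz => by
    rw [irreducibleComponents_eq_singleton, Set.mem_singleton_iff] at hz
    rw [show z = genericPoint ↥Y from (IsGenericPoint.eq (genericPoint_spec ↥Y) hz).symm, hgen]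
  obtain ⟨h, hh, -⟩ := existsUnique_lift f hY hdom
  haveI : IsIntegralHom (Curv2.normalizationι X) :=
    inferInstanceAs (IsIntegralHom (X.fromSpecStalk (genericPoint X)).fromNormalization)
  haveI : IsIntegralHom h := by
    haveI : IsIntegralHom (h ≫ Curv2.normalizationι X) := hh ▸ inferInstance
    exact IsIntegralHom.of_comp h (Curv2.normalizationι X)
  haveI := hN
  have hg : h (genericPoint ↥Y) = genericPoint ↥(Curv2.normalization X) := by
    have : h (genericPoint ↥Y) ∈ ({genericPoint ↥(Curv2.normalization X)} : Set _) := by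
      rw [← hpre]
      show Curv2.normalizationι X (h (genericPoint ↥Y)) = _
      rw [← Scheme.Hom.comp_apply, hh, hgen]
    exact this
  have hs : Function.Surjective (h.stalkMap (genericPoint ↥Y)) := by
    subst hh
    rw [Scheme.Hom.stalkMap_comp] at hsurj
    exact Function.Surjective.of_comp hsurj
  haveI := NormalSch.isIso_of_integral_birational hnorm h hg hs
  exact ⟨asIso h, hh⟩

/-- The normalization is an isomorphism over normal affine opens. -/
theorem isIso_restrict_of_normal {U : X.Opens} (hU : IsAffineOpen U) [Nonempty U]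
    (hnorm : ∀ x ∈ U, IsIntegrallyClosed (X.presheaf.stalk x)) :
    IsIso (Curv2.normalizationι X ∣_ U) := by
  haveI : IsAffineHom (Curv2.normalizationι X) :=
    inferInstanceAs (IsAffineHom (X.fromSpecStalk (genericPoint X)).fromNormalization)
  rw [isIso_morphismRestrict_iff_isIso_app _ hU, ConcreteCategory.isIso_iff_bijective]
  haveI : IsDomain Γ(X, U) := IsIntegral.component_integral U
  haveI : IsIntegrallyClosed Γ(X, U) := by
    refine IsIntegrallyClosed.of_localization_maximal fun p _ hp => ?_
    haveI := hp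
    let x : X := hU.fromSpec ⟨p, inferInstance⟩
    have hx : x ∈ U := by
      have : x ∈ Set.range hU.fromSpec := ⟨_, rfl⟩
      rwa [hU.range_fromSpec] at this
    letI := TopCat.Presheaf.algebra_section_stalk X.presheaf (⟨x, hx⟩ : U)
    haveI := hnorm x hx
    haveI : IsLocalization.AtPrime (X.presheaf.stalk x) p := hU.isLocalization_stalk' ⟨p, inferInstance⟩ hx
    exact IsIntegrallyClosed.of_equiv
      (IsLocalization.algEquiv p.primeCompl (X.presheaf.stalk x) (Localization.AtPrime p)).toRingEquiv
  obtain ⟨e, he⟩ := DomDVR.exists_normalization_chart X hU (FractionRing Γ(X, U))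
  have hfun : ⇑(ConcreteCategory.hom ((Curv2.normalizationι X).app U)) =
      e ∘ algebraMap Γ(X, U) (integralClosure Γ(X, U) (FractionRing Γ(X, U))) := funext fun a => (he a).symm
  rw [hfun]
  refine e.bijective.comp ⟨fun a b h => IsFractionRing.injective Γ(X, U) (FractionRing Γ(X, U))
    (congrArg Subtype.val h), fun c => ?_⟩
  obtain ⟨a, ha⟩ := IsIntegrallyClosed.isIntegral_iff.1 c.2
  exact ⟨a, Subtype.ext ha⟩

end Groth.Agent.NormUPLib

end
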