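import Groth.Agent.DomDVR.NormChart
import Groth.Prelude.Def_Curv2
import Groth.Prelude.Def_Pi1

/-! The universal property of the normalization of an integral scheme. -/

set_option autoImplicit false
set_option backward.isDefEq.respectTransparency false
set_option linter.style.haveILetI false

universe u

open CategoryTheory CategoryTheory.Limits AlgebraicGeometry TopologicalSpace

noncomputable section

namespace Groth.Agent.NormUPLib

theorem eq_of_toSpecΓ {Z : Scheme.{u}} (W : Z.Opens) {R : CommRingCat.{u}} {a b : R ⟶ Γ(Z, W)}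
    (h : W.toSpecΓ ≫ Spec.map a = W.toSpecΓ ≫ Spec.map b) : a = b := by
  have h' := congrArg Scheme.Hom.appTop h
  rw [Scheme.Hom.comp_appTop, Scheme.Hom.comp_appTop, Scheme.Opens.toSpecΓ_appTop, Scheme.ΓSpecIso_naturality_assoc,
    Scheme.ΓSpecIso_naturality_assoc] at h'
  exact (cancel_mono W.topIso.inv).1 ((cancel_epi (Scheme.ΓSpecIso R).hom).1 h')

variable {X Z : Scheme.{u}} [IsIntegral X] (g : Z ⟶ X)

/-- A nonzero function downstairs stays nonzero in every local ring upstairs. -/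
theorem germ_app_ne_zero (hZ : Pi1.IsNormalScheme Z)
    (hdom : ∀ z : Z, closure {z} ∈ irreducibleComponents ↥Z → g z = genericPoint ↥X)
    {U : X.Opens} {W : Z.Opens} (h : W ≤ g ⁻¹ᵁ U) {b : Γ(X, U)} (hb : b ≠ 0) (z : Z) (hz : z ∈ W) :
    Z.presheaf.germ W z hz (g.appLE U W h b) ≠ 0 := by
  haveI := (hZ z).1
  let ζ := Z.fromSpecStalk z (⊥ : PrimeSpectrum (Z.presheaf.stalk z))
  have hζz : ζ ⤳ z := by
    have : ζ ∈ {w | w ⤳ z} := Scheme.range_fromSpecStalk (X := Z) (x := z) ▸ Set.mem_range_self _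
    exact this
  have hmin : ∀ w, w ⤳ ζ → w = ζ := fun w hw => by
    obtain ⟨q, rfl⟩ : w ∈ Set.range (Z.fromSpecStalk z) := by
      rw [Scheme.range_fromSpecStalk]; exact hw.trans hζz
    have h1 : q ⤳ (⊥ : PrimeSpectrum (Z.presheaf.stalk z)) :=
      (Z.fromSpecStalk z).isEmbedding.isInducing.specializes_iff.1 hw
    let q' : PrimeSpectrum (Z.presheaf.stalk z) := q
    have h2 : q' ≤ ⊥ := (PrimeSpectrum.le_iff_specializes q' ⊥).2 h1
    exact congrArg (Z.fromSpecStalk z) (show q' = ⊥ from le_bot_iff.1 h2)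
  have hcomp : closure {ζ} ∈ irreducibleComponents ↥Z := by
    refine ⟨isIrreducible_singleton.closure, fun C hC hle => ?_⟩
    obtain ⟨w, hw⟩ := QuasiSober.sober hC.closure isClosed_closure
    have : w ⤳ ζ := hw.specializes (subset_closure (hle (subset_closure rfl)))
    rw [← hmin w this, hw.def]
    exact subset_closure
  have hU : Nonempty U := ⟨⟨g z, h hz⟩⟩
  have hb' : genericPoint ↥X ∈ X.basicOpen b := by
    refine ((genericPoint_spec X).mem_open_set_iff (X.basicOpen b).2).2 ?_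
    by_contra hne
    refine hb ((basicOpen_eq_bot_iff b).1 (Opens.ext (Set.eq_empty_iff_forall_notMem.2 fun y hy => hne ⟨y, trivial, hy⟩)))
  have hζ : ζ ∈ Z.basicOpen (g.appLE U W h b) := by
    rw [Scheme.Hom.appLE, CommRingCat.comp_apply, Scheme.basicOpen_res, ← Scheme.preimage_basicOpen]
    exact ⟨hζz.mem_open W.2 hz, show g ζ ∈ _ by rw [hdom ζ hcomp]; exact hb'⟩
  intro h0
  obtain ⟨V, hzV, i, i', he⟩ := Z.presheaf.germ_eq z hz hz (g.appLE U W h b) 0 (by rw [h0, map_zero])
  have h1 : ζ ∈ Z.basicOpen (Z.presheaf.map i.op (g.appLE U W h b)) := by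
    rw [Scheme.basicOpen_res]; exact ⟨hζz.mem_open V.2 hzV, hζ⟩
  rw [he, map_zero, Scheme.basicOpen_zero] at h1
  exact h1

variable [QuasiCompact (X.fromSpecStalk (genericPoint ↥X))] [QuasiSeparated (X.fromSpecStalk (genericPoint ↥X))]

/-- There is exactly one compatible ring map out of the functions on a chart of the normalization. -/
theorem existsUnique_ringHom (hZ : Pi1.IsNormalScheme Z)
    (hdom : ∀ z : Z, closure {z} ∈ irreducibleComponents ↥Z → g z = genericPoint ↥X)
    {U : X.Opens} (hU : IsAffineOpen U) [Nonempty U] {W : Z.Opens} (h : W ≤ g ⁻¹ᵁ U) :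
    ∃! ψ : Γ(Curv2.normalization X, Curv2.normalizationι X ⁻¹ᵁ U) ⟶ Γ(Z, W),
      (Curv2.normalizationι X).app U ≫ ψ = g.appLE U W h := by
  classical
  let A := Γ(X, U)
  haveI : IsDomain A := IsIntegral.component_integral U
  let K := FractionRing A
  obtain ⟨e, he⟩ := DomDVR.exists_normalization_chart X hU K
  let ρ : A →+* Γ(Z, W) := (g.appLE U W h).hom
  have hnz : ∀ {b : A}, b ≠ 0 → ∀ z (hz : z ∈ W), Z.presheaf.germ W z hz (ρ b) ≠ 0 := fun hb z hz =>
    germ_app_ne_zero g hZ hdom h hb z hz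
  -- uniqueness of fractions
  have huniq : ∀ {b : A} {t t' : Γ(Z, W)}, b ≠ 0 → ρ b * t = ρ b * t' → t = t' := fun {b t t'} hb ht =>
    TopCat.Presheaf.section_ext Z.sheaf W _ _ fun z hz => by
      haveI : IsDomain (Z.sheaf.presheaf.stalk z) := (hZ z).1
      have := congrArg (Z.presheaf.germ W z hz) ht
      rw [map_mul, map_mul] at this
      exact mul_left_cancel₀ (hnz hb z hz) this
  -- existence of fractions
  have hex : ∀ c : integralClosure A K, ∀ (a b : A), b ≠ 0 → (c : K) * algebraMap A K b = algebraMap A K a →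
      ∃ t : Γ(Z, W), ρ b * t = ρ a := fun c a b hb hab => by
    have hloc : ∀ z (hz : z ∈ W), ∃ (V : Z.Opens) (hV : V ≤ W) (t : Γ(Z, V)), z ∈ V ∧
        Z.presheaf.map (homOfLE hV).op (ρ b) * t = Z.presheaf.map (homOfLE hV).op (ρ a) := fun z hz => by
      haveI := (hZ z).1
      haveI := (hZ z).2
      let O := Z.presheaf.stalk z
      let Q := FractionRing O
      let θ₀ : A →+* O := (Z.presheaf.germ W z hz).hom.comp ρ
      letI : Algebra A O := θ₀.toAlgebra
      have hθ : ∀ y : nonZeroDivisors A, IsUnit (algebraMap A Q y) := fun y => by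
        refine IsUnit.mk0 _ ?_
        rw [IsScalarTower.algebraMap_apply A O Q, map_ne_zero_iff _ (IsFractionRing.injective O Q)]
        exact hnz (nonZeroDivisors.ne_zero y.2) z hz
      let θ : K →ₐ[A] Q := IsLocalization.liftAlgHom (M := nonZeroDivisors A) (f := Algebra.ofId A Q) hθ
      obtain ⟨w, hw⟩ := IsIntegrallyClosed.isIntegral_iff.1 ((c.2.map θ).tower_top (A := O))
      have hwb : θ₀ b * w = θ₀ a := by
        refine IsFractionRing.injective O Q ?_
        rw [map_mul, hw]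
        have := congrArg θ hab
        rw [map_mul, AlgHom.commutes, AlgHom.commutes, IsScalarTower.algebraMap_apply A O Q b,
          IsScalarTower.algebraMap_apply A O Q a, mul_comm] at this
        exact this
      obtain ⟨V₁, hzV₁, w₁, rfl⟩ := Z.presheaf.exists_germ_eq w
      have hzV : z ∈ V₁ ⊓ W := ⟨hzV₁, hz⟩
      have e1 : Z.presheaf.germ (V₁ ⊓ W) z hzV (Z.presheaf.map (homOfLE inf_le_right).op (ρ b) *
          Z.presheaf.map (homOfLE inf_le_left).op w₁) =
          Z.presheaf.germ (V₁ ⊓ W) z hzV (Z.presheaf.map (homOfLE inf_le_right).op (ρ a)) := by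
        rw [map_mul, TopCat.Presheaf.germ_res_apply, TopCat.Presheaf.germ_res_apply, TopCat.Presheaf.germ_res_apply]
        exact hwb
      obtain ⟨V, hzV', i, i', hi⟩ := Z.presheaf.germ_eq z hzV hzV _ _ e1
      refine ⟨V, i.le.trans inf_le_right, Z.presheaf.map i.op (Z.presheaf.map (homOfLE inf_le_left).op w₁), hzV', ?_⟩
      rw [Subsingleton.elim i' i, map_mul, ← ConcreteCategory.comp_apply, ← Z.presheaf.map_comp,
        ← ConcreteCategory.comp_apply _ _ (ρ a), ← Z.presheaf.map_comp] at hi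
      exact hi
    choose V hV t hzV ht using hloc
    let I := {z : Z // z ∈ W}
    have hcompat : TopCat.Presheaf.IsCompatible Z.sheaf.obj (fun z : I => V z.1 z.2) fun z => t z.1 z.2 := by
      intro x y
      refine TopCat.Presheaf.section_ext Z.sheaf _ _ _ fun w hw => ?_
      haveI : IsDomain (Z.sheaf.presheaf.stalk w) := (hZ w).1
      have hwW : w ∈ W := hV x.1 x.2 hw.1
      have k1 := congrArg (Z.presheaf.germ _ w hw.1) (ht x.1 x.2)
      have k2 := congrArg (Z.presheaf.germ _ w hw.2) (ht y.1 y.2)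
      rw [map_mul, TopCat.Presheaf.germ_res_apply, TopCat.Presheaf.germ_res_apply] at k1 k2
      erw [TopCat.Presheaf.germ_res_apply, TopCat.Presheaf.germ_res_apply]
      exact mul_left_cancel₀ (hnz hb w hwW) (k1.trans k2.symm)
    obtain ⟨s, hs, -⟩ := Z.sheaf.existsUnique_gluing' (fun z : I => V z.1 z.2) W (fun z => homOfLE (hV z.1 z.2))
      (fun z hz => Opens.mem_iSup.2 ⟨⟨z, hz⟩, hzV z hz⟩) _ hcompat
    let s' : Γ(Z, W) := s
    refine ⟨s', TopCat.Presheaf.section_ext Z.sheaf W _ _ fun z hz => ?_⟩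
    have k := congrArg (Z.presheaf.germ _ z (hzV z hz)) (ht z hz)
    rw [map_mul, TopCat.Presheaf.germ_res_apply, TopCat.Presheaf.germ_res_apply] at k
    have k2 := congrArg (Z.presheaf.germ _ z (hzV z hz)) (hs ⟨z, hz⟩)
    erw [TopCat.Presheaf.germ_res_apply] at k2
    show Z.presheaf.germ W z hz (ρ b * s') = Z.presheaf.germ W z hz (ρ a)
    rw [map_mul, ← k, ← k2]
  have hfr : ∀ c : integralClosure A K, ∃ (a b : A), b ≠ 0 ∧ (c : K) * algebraMap A K b = algebraMap A K a := fun c => by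
    obtain ⟨⟨a, b⟩, hab⟩ := IsLocalization.surj (nonZeroDivisors A) (c : K)
    exact ⟨a, b, nonZeroDivisors.ne_zero b.2, hab⟩
  choose a b hb hab using hfr
  choose t ht using fun c => hex c (a c) (b c) (hb c) (hab c)
  have ht : ∀ c, ρ (b c) * t c = ρ (a c) := ht
  have hchar : ∀ (c : integralClosure A K) (a' b' : A), b' ≠ 0 → (c : K) * algebraMap A K b' = algebraMap A K a' → ρ b' * t c = ρ a' := by
    intro c a' b' hb' h'
    have h1 : a c * b' = a' * b c := IsFractionRing.injective A K (by rw [map_mul, map_mul, ← hab, ← h']; ring)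
    refine huniq (hb c) ?_
    rw [mul_left_comm, ht, ← map_mul, ← map_mul, mul_comm b' (a c), h1, mul_comm]
  let χ : integralClosure A K →+* Γ(Z, W) :=
    { toFun := t
      map_one' := by have := hchar 1 1 1 one_ne_zero (by simp); simpa using this
      map_mul' := fun c d => by
        refine huniq (mul_ne_zero (hb c) (hb d)) ?_
        rw [hchar (c * d) (a c * a d) _ (mul_ne_zero (hb c) (hb d)) (by
          rw [map_mul, map_mul, Subalgebra.coe_mul, ← hab c, ← hab d]; ring), map_mul, map_mul, ← ht c, ← ht d]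
        ring
      map_zero' := by have := hchar 0 0 1 one_ne_zero (by simp); simpa using this
      map_add' := fun c d => by
        refine huniq (mul_ne_zero (hb c) (hb d)) ?_
        rw [hchar (c + d) (a c * b d + a d * b c) _ (mul_ne_zero (hb c) (hb d)) (by
          rw [map_add, map_mul, map_mul, map_mul, Subalgebra.coe_add, ← hab c, ← hab d]; ring),
          map_add, map_mul, map_mul, map_mul, ← ht c, ← ht d]
        ring }
  have hχ : ∀ r, χ (algebraMap A _ r) = ρ r := fun r => by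
    have := hchar (algebraMap A _ r) r 1 one_ne_zero (by rw [map_one, mul_one]; rfl)
    rwa [map_one, one_mul] at this
  refine ⟨CommRingCat.ofHom (χ.comp e.symm.toRingHom), ?_, fun ψ hψ => ?_⟩
  · ext r
    show χ (e.symm ((Curv2.normalizationι X).app U r)) = ρ r
    rw [show (Curv2.normalizationι X).app U r = e (algebraMap A _ r) from (he r).symm, e.symm_apply_apply, hχ]
  · ext y
    show ψ y = t (e.symm y)
    refine huniq (hb (e.symm y)) ?_
    rw [ht, ← show ψ ((Curv2.normalizationι X).app U (b (e.symm y))) = ρ (b (e.symm y)) from ConcreteCategory.congr_hom hψ _,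
      ← show ψ ((Curv2.normalizationι X).app U (a (e.symm y))) = ρ (a (e.symm y)) from ConcreteCategory.congr_hom hψ _, ← map_mul]
    refine congrArg _ (e.symm.injective ?_)
    rw [map_mul, show (Curv2.normalizationι X).app U (b (e.symm y)) = e (algebraMap A _ (b (e.symm y))) from (he _).symm,
      show (Curv2.normalizationι X).app U (a (e.symm y)) = e (algebraMap A _ (a (e.symm y))) from (he _).symm,
      e.symm_apply_apply, e.symm_apply_apply]
    exact Subtype.ext ((mul_comm _ _).trans (hab _))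

/-- Over a chart, a map to the normalization is the same as such a ring map. -/
theorem existsUnique_local (hZ : Pi1.IsNormalScheme Z)
    (hdom : ∀ z : Z, closure {z} ∈ irreducibleComponents ↥Z → g z = genericPoint ↥X)
    {U : X.Opens} (hU : IsAffineOpen U) [Nonempty U] (W : Z.Opens) (h : W ≤ g ⁻¹ᵁ U) :
    ∃! k : (W : Scheme.{u}) ⟶ Curv2.normalization X, k ≫ Curv2.normalizationι X = W.ι ≫ g := by
  let ν := Curv2.normalizationι X
  haveI : IsAffineHom ν := inferInstanceAs (IsAffineHom (X.fromSpecStalk (genericPoint X)).fromNormalization)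
  have hV : IsAffineOpen (ν ⁻¹ᵁ U) := hU.preimage ν
  obtain ⟨ψ, hψ, huψ⟩ := existsUnique_ringHom g hZ hdom hU h
  refine ⟨W.toSpecΓ ≫ Spec.map ψ ≫ hV.fromSpec, ?_, fun k hk => ?_⟩
  · show (W.toSpecΓ ≫ Spec.map ψ ≫ hV.fromSpec) ≫ ν = W.ι ≫ g
    rw [Category.assoc, Category.assoc, ← IsAffineOpen.SpecMap_appLE_fromSpec ν hU hV le_rfl, ← Spec.map_comp_assoc,
      ← Scheme.Hom.app_eq_appLE, hψ, Scheme.Opens.toSpecΓ_SpecMap_appLE_assoc, IsAffineOpen.toSpecΓ_fromSpec,
      Scheme.Hom.resLE_comp_ι]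
  · have hkU : (⊤ : (W : Scheme.{u}).Opens) ≤ k ⁻¹ᵁ (ν ⁻¹ᵁ U) := fun w _ => by
      show (k ≫ ν) w ∈ U
      rw [show k ≫ ν = W.ι ≫ g from hk]
      exact h w.2
    let k' : (W : Scheme.{u}) ⟶ (ν ⁻¹ᵁ U : (Curv2.normalization X).Opens) :=
      IsOpenImmersion.lift (ν ⁻¹ᵁ U).ι k (by rw [Scheme.Opens.range_ι]; rintro _ ⟨w, rfl⟩; exact hkU (Opens.mem_top w))
    have hk' : k' ≫ (ν ⁻¹ᵁ U).ι = k := IsOpenImmersion.lift_fac _ _ _
    let ψ' : Γ(Curv2.normalization X, ν ⁻¹ᵁ U) ⟶ Γ(Z, W) :=
      (ν ⁻¹ᵁ U : (Curv2.normalization X).Opens).topIso.inv ≫ k'.appTop ≫ W.topIso.hom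
    have hk2 : W.toSpecΓ ≫ Spec.map ψ' ≫ hV.fromSpec = k := by
      rw [← hk', ← IsAffineOpen.toSpecΓ_fromSpec hV, ← Category.assoc, ← Category.assoc k']
      congr 1
      simp [ψ', Scheme.Opens.toSpecΓ, Scheme.toSpecΓ_naturality_assoc, ← Spec.map_comp_assoc, ← Spec.map_comp]
      erw [Category.comp_id]
    have hψ' : (Curv2.normalizationι X).app U ≫ ψ' = g.appLE U W h := by
      refine eq_of_toSpecΓ W ((cancel_mono hU.fromSpec).1 ?_)
      rw [Spec.map_comp, Category.assoc, Category.assoc, Category.assoc, Scheme.Hom.app_eq_appLE,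
        IsAffineOpen.SpecMap_appLE_fromSpec ν hU hV le_rfl, reassoc_of% hk2, hk,
        Scheme.Opens.toSpecΓ_SpecMap_appLE_assoc, IsAffineOpen.toSpecΓ_fromSpec, Scheme.Hom.resLE_comp_ι]
    rw [← hk2, huψ ψ' hψ']


/-- A normal scheme whose components dominate maps uniquely to the normalization. -/
theorem existsUnique_lift (hZ : Pi1.IsNormalScheme Z)
    (hdom : ∀ z : Z, closure {z} ∈ irreducibleComponents ↥Z → g z = genericPoint ↥X) :
    ∃! h : Z ⟶ Curv2.normalization X, h ≫ Curv2.normalizationι X = g := by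
  choose U hU hxU using fun x : X => (exists_isAffineOpen_mem_and_subset (x := x) (U := (⊤ : X.Opens)) trivial)
  haveI : ∀ x : X, Nonempty (U x) := fun x => ⟨⟨x, (hxU x).1⟩⟩
  let W : X → Z.Opens := fun x => g ⁻¹ᵁ U x
  have hW : IsOpenCover W := IsOpenCover.mk <| eq_top_iff.2 fun z _ => Opens.mem_iSup.2 ⟨g z, (hxU (g z)).1⟩
  choose k hk huk using fun x : X => existsUnique_local g hZ hdom (hU x) (W x) le_rfl
  have hk : ∀ x, k x ≫ Curv2.normalizationι X = (W x).ι ≫ g := hk
  have hcompat : ∀ x y, Z.homOfLE (inf_le_left : W x ⊓ W y ≤ W x) ≫ k x = Z.homOfLE (inf_le_right : W x ⊓ W y ≤ W y) ≫ k y := by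
    intro x y
    exact (existsUnique_local g hZ hdom (hU x) (W x ⊓ W y) inf_le_left).unique
      (by rw [Category.assoc, hk, Scheme.homOfLE_ι_assoc]) (by rw [Category.assoc, hk, Scheme.homOfLE_ι_assoc])
  let 𝒰 := Z.openCoverOfIsOpenCover W hW
  let h := 𝒰.glueMorphisms k fun (x : X) (y : X) => by
    refine (cancel_epi (isPullback_opens_inf (W x) (W y)).isoPullback.hom).1 ?_
    rw [← Category.assoc, ← Category.assoc]
    erw [IsPullback.isoPullback_hom_fst, IsPullback.isoPullback_hom_snd]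
    exact hcompat x y
  refine ⟨h, 𝒰.hom_ext _ _ fun x => ?_, fun h' hh' => 𝒰.hom_ext _ _ fun x => ?_⟩
  · exact (Scheme.Cover.ι_glueMorphisms_assoc ..).trans (hk x)
  · refine Eq.trans ?_ (Scheme.Cover.ι_glueMorphisms ..).symm
    exact huk x _ (show ((W x).ι ≫ h') ≫ Curv2.normalizationι X = _ by rw [Category.assoc, hh'])

end Groth.Agent.NormUPLib
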